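import Mathlib
import Cfsg.Agent.Lib.Helper5.OrthCls5
import Cfsg.Agent.Lib.Helper5.SpReal1
import Cfsg.Agent.Lib.Helper2.OrthCard1

set_option autoImplicit false

/-!
Realising element orders in orthogonal groups: `OOrd F N n plus` says that some nondegenerate
quadratic space of dimension `n` over `F`, of plus type iff `plus`, carries an isometry of exact
order `N`.  Orders multiply (lcm) under orthogonal sums, and a realisation on a space of minus type
gives a matrix in the isometry group of the standard minus type form.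
-/

namespace Cfsg.Agent.Lib.Carve.Sp8B

open QuadraticMap Module
open Cfsg.Agent.Lib.Helper5.OrthCls

universe u v

variable {F : Type u} [Field F]

/-- some nondegenerate quadratic space of dimension `n`, of plus type iff `plus`, carries an
isometry of exact order `N` -/
def OOrd (F : Type u) [Field F] (N n : ℕ) (plus : Prop) : Prop :=
  ∃ (V : Type u) (_ : AddCommGroup V) (_ : Module F V) (_ : FiniteDimensional F V)
    (Q : QuadraticForm F V) (A : V →ₗ[F] V),
    (polarBilin Q).Nondegenerate ∧ finrank F V = n ∧ (∀ v, Q (A v) = Q v) ∧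
    (∀ k : ℕ, (∀ v, (A ^ k) v = v) ↔ N ∣ k) ∧ (IsPlus Q ↔ plus)

theorem OOrd.congr {N n : ℕ} {P P' : Prop} (h : OOrd F N n P) (hPP : P ↔ P') : OOrd F N n P' := by
  obtain ⟨V, i1, i2, i3, Q, A, h1, h2, h3, h4, h5⟩ := h
  exact ⟨V, i1, i2, i3, Q, A, h1, h2, h3, h4, h5.trans hPP⟩

theorem conj_pow_apply {V : Type*} {V' : Type*} [AddCommGroup V] [Module F V] [AddCommGroup V']
    [Module F V'] (g : V ≃ₗ[F] V') (A : Module.End F V) (j : ℕ) (w : V') :
    ((g.conj A) ^ j) w = g ((A ^ j) (g.symm w)) := by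
  induction j generalizing w with
  | zero => simp
  | succ j ih =>
    rw [pow_succ, Module.End.mul_apply, ih, LinearEquiv.conj_apply, pow_succ, Module.End.mul_apply]
    simp

/-- a realisation on a space in any universe gives one in the universe of the field -/
theorem OOrd.of_space {V : Type v} [AddCommGroup V] [Module F V] [FiniteDimensional F V]
    (Q : QuadraticForm F V) (A : V →ₗ[F] V) {N n : ℕ} {plus : Prop}
    (hQ : (polarBilin Q).Nondegenerate) (hn : finrank F V = n) (hA : ∀ v, Q (A v) = Q v)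
    (hord : ∀ k : ℕ, (∀ v, (A ^ k) v = v) ↔ N ∣ k) (hplus : IsPlus Q ↔ plus) :
    OOrd F N n plus := by
  set e : V ≃ₗ[F] (Fin n → F) := (Module.finBasisOfFinrankEq F V hn).equivFun with he
  set Q' : QuadraticForm F (Fin n → F) := Q.comp e.symm.toLinearMap with hQ'
  have hQ'a : ∀ w, Q' w = Q (e.symm w) := fun w => rfl
  have hiso : ∀ v, Q' (e v) = Q v := fun v => by rw [hQ'a, LinearEquiv.symm_apply_apply]
  have hpol : ∀ x y, polar Q' x y = polar Q (e.symm x) (e.symm y) := by
    intro x y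
    simp only [polar, hQ'a, map_add]
  refine ⟨Fin n → F, inferInstance, inferInstance, inferInstance, Q', e.conj A, ?_, ?_, ?_, ?_, ?_⟩
  · constructor
    · intro x hx
      have : e.symm x = 0 := hQ.1 _ (fun y => by
        have := hx (e y)
        rw [polarBilin_apply_apply, hpol, LinearEquiv.symm_apply_apply] at this
        exact this)
      simpa using this
    · intro y hy
      have : e.symm y = 0 := hQ.2 _ (fun x => by
        have := hy (e x)
        rw [polarBilin_apply_apply, hpol, LinearEquiv.symm_apply_apply] at this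
        exact this)
      simpa using this
  · simp
  · intro w
    rw [LinearEquiv.conj_apply]
    simp only [LinearMap.comp_apply, LinearEquiv.coe_coe]
    rw [hiso, hA, ← hiso, LinearEquiv.apply_symm_apply]
  · intro k
    rw [← hord k]
    constructor
    · intro h v
      have := h (e v)
      rw [conj_pow_apply, LinearEquiv.symm_apply_apply] at this
      exact e.injective this
    · intro h w
      rw [conj_pow_apply, h, LinearEquiv.apply_symm_apply]
  · rw [← hplus]
    exact (isPlus_iff_of_isometry e hiso).symm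

/-- orthogonal sums: orders combine by least common multiple, types multiply -/
theorem OOrd.mul [Finite F] {N₁ N₂ n₁ n₂ : ℕ} {P₁ P₂ : Prop} (h₁ : OOrd F N₁ n₁ P₁)
    (h₂ : OOrd F N₂ n₂ P₂) (he₁ : Even n₁) (he₂ : Even n₂) :
    OOrd F (Nat.lcm N₁ N₂) (n₁ + n₂) (P₁ ↔ P₂) := by
  obtain ⟨V₁, iA₁, iM₁, iF₁, Q₁, A₁, h11, h12, h13, h14, h15⟩ := h₁
  obtain ⟨V₂, iA₂, iM₂, iF₂, Q₂, A₂, h21, h22, h23, h24, h25⟩ := h₂
  refine ⟨V₁ × V₂, inferInstance, inferInstance, inferInstance, Q₁.prod Q₂, A₁.prodMap A₂,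
    prod_nondeg Q₁ Q₂ h11 h21, ?_, ?_, ?_, ?_⟩
  · rw [Module.finrank_prod, h12, h22]
  · intro v
    rw [prod_apply, prod_apply]
    show Q₁ (A₁ v.1) + Q₂ (A₂ v.2) = _
    rw [h13, h23]
  · intro k
    rw [Nat.lcm_dvd_iff, ← h14 k, ← h24 k]
    constructor
    · intro h
      refine ⟨fun v₁ => ?_, fun v₂ => ?_⟩
      · have := h (v₁, 0)
        rw [Cfsg.Agent.Lib.Helper5.SpReal.prodMap_pow_apply] at this
        exact congrArg Prod.fst this
      · have := h (0, v₂)
        rw [Cfsg.Agent.Lib.Helper5.SpReal.prodMap_pow_apply] at this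
        exact congrArg Prod.snd this
    · rintro ⟨ha, hb⟩ v
      rw [Cfsg.Agent.Lib.Helper5.SpReal.prodMap_pow_apply, ha, hb]
  · rw [isPlus_prod_iff h11 h21 (h12 ▸ he₁) (h22 ▸ he₂), h15, h25]

open Cfsg.Agent.Lib.Helper2.OrthCard in
/-- a realisation on a space of minus type gives a matrix of the standard minus type form -/
theorem OOrd.exists_matrix [Finite F] {N k : ℕ} (hN : 0 < N) (h : OOrd F N (2 * k + 2) False)
    (a b : F) (hab : ∀ z₁ z₂ : F, z₁ ^ 2 + a * z₁ * z₂ + b * z₂ ^ 2 = 0 → z₁ = 0 ∧ z₂ = 0) :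
    ∃ M : ↥(Cfsg.isometryGroup F (Cfsg.quadFormMinus k F a b)), orderOf M = N := by
  classical
  obtain ⟨V, iA, iM, iF, Q, A, h1, h2, h3, h4, h5⟩ := h
  have hdim : finrank F V = finrank F ((Fin k ⊕ Fin k) ⊕ Fin 2 → F) := by
    rw [h2, Module.finrank_fintype_fun_eq_card, Fintype.card_sum, Fintype.card_sum,
      Fintype.card_fin, Fintype.card_fin]
    ring
  obtain ⟨g, hg⟩ := iso_of_type Q (QMn k a b) h1 (QMn_nondeg k a b hab) hdim
    (by rw [h2]; exact ⟨k + 1, by ring⟩)
    (iff_of_false (fun hp => h5.1 hp) (not_isPlus_QMn k a b hab))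
  set B : Module.End F ((Fin k ⊕ Fin k) ⊕ Fin 2 → F) := g.conj A with hB
  have hBpow : ∀ (j : ℕ) w, (B ^ j) w = g ((A ^ j) (g.symm w)) := fun j w =>
    conj_pow_apply g A j w
  have hAN : ∀ v, (A ^ N) v = v := (h4 N).2 dvd_rfl
  have hBN : B ^ N = 1 := by
    apply LinearMap.ext
    intro w
    rw [hBpow, hAN, LinearEquiv.apply_symm_apply]
    rfl
  set Mm : Matrix ((Fin k ⊕ Fin k) ⊕ Fin 2) ((Fin k ⊕ Fin k) ⊕ Fin 2) F :=
    LinearMap.toMatrix' B with hMm
  have hMpow : ∀ j : ℕ, Mm ^ j = 1 ↔ ∀ v, (A ^ j) v = v := by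
    intro j
    constructor
    · intro h v
      have h6 : B ^ j = 1 := by
        have := congrArg Matrix.toLin' h
        rw [Matrix.toLin'_pow, hMm, Matrix.toLin'_toMatrix', Matrix.toLin'_one] at this
        exact this
      have h7 := congrArg (fun f : Module.End F _ => f (g v)) h6
      simp only [Module.End.one_apply] at h7
      rw [hBpow, LinearEquiv.symm_apply_apply] at h7
      exact g.injective h7
    · intro h
      have h6 : B ^ j = 1 := by
        apply LinearMap.ext
        intro w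
        rw [hBpow, h, LinearEquiv.apply_symm_apply]
        rfl
      apply Matrix.toLin'.injective
      rw [Matrix.toLin'_pow, hMm, Matrix.toLin'_toMatrix', h6, Matrix.toLin'_one]
      rfl
  have hMN : Mm ^ N = 1 := (hMpow N).2 hAN
  obtain ⟨N', rfl⟩ : ∃ N', N = N' + 1 := ⟨N - 1, by omega⟩
  set Mu : GL ((Fin k ⊕ Fin k) ⊕ Fin 2) F :=
    ⟨Mm, Mm ^ N', by rw [← pow_succ', hMN], by rw [← pow_succ, hMN]⟩ with hMu
  have hmem : Mu ∈ Cfsg.isometryGroup F (Cfsg.quadFormMinus k F a b) := by
    intro u v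
    show Cfsg.quadFormMinus k F a b (Matrix.mulVec Mm u) = Cfsg.quadFormMinus k F a b u
    rw [hMm, LinearMap.toMatrix'_mulVec, hB, LinearEquiv.conj_apply, ← QMn_coe]
    simp only [LinearMap.comp_apply, LinearEquiv.coe_coe]
    rw [hg, h3, ← hg, LinearEquiv.apply_symm_apply]
  refine ⟨⟨Mu, hmem⟩, ?_⟩
  apply Nat.dvd_antisymm
  · apply orderOf_dvd_of_pow_eq_one
    apply Subtype.ext
    apply Units.ext
    rw [SubgroupClass.coe_pow, Units.val_pow_eq_pow_val]
    exact hMN
  · rw [← h4, ← hMpow]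
    have := pow_orderOf_eq_one (⟨Mu, hmem⟩ : ↥(Cfsg.isometryGroup F (Cfsg.quadFormMinus k F a b)))
    have h8 := congrArg (fun x : ↥(Cfsg.isometryGroup F (Cfsg.quadFormMinus k F a b)) =>
      x.1.1) this
    simp only [SubgroupClass.coe_pow, Units.val_pow_eq_pow_val] at h8
    exact h8

end Cfsg.Agent.Lib.Carve.Sp8B
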