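import Mathlib
import Cfsg.Agent.Lib.Helper5.Sp8B.Basic
import Cfsg.Agent.Lib.Helper5.BG157e
import Cfsg.Agent.Lib.Helper2.QuadStd
import Cfsg.Agent.S0289

set_option autoImplicit false

/-!
The minus type Singer pieces: a nondegenerate quadratic space of dimension `2 d`, not of plus type,
with an isometry of exact order `q ^ d + 1`.
-/

namespace Cfsg.Agent.Lib.Carve.Sp8B

open QuadraticMap Module
open Cfsg.Agent.Lib.Helper5.OrthCls

universe u v

variable {F : Type u} [Field F]

/-- an invariant nondegenerate quadratic form on a field with involution (any universe) -/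
theorem exists_form_self' {K : Type v} [Field K] [Algebra F K] [FiniteDimensional F K] (α : K)
    (σ : K →ₐ[F] K) (hσ2 : ∀ x, σ (σ x) = x) (hσα : σ α * α = 1)
    (hne : ∃ x, σ x ≠ x) :
    ∃ Q : QuadraticForm F K, (polarBilin Q).Nondegenerate ∧ ∀ x, Q (α * x) = Q x := by
  obtain ⟨x₀, hx₀⟩ : ∃ x₀ : K, x₀ + σ x₀ ≠ 0 := by
    by_cases h2 : (2 : K) = 0
    · obtain ⟨x, hx⟩ := hne
      refine ⟨x, fun h => hx ?_⟩
      have h3 : σ x = -x := eq_neg_of_add_eq_zero_right h
      have h4 : -x = x := by
        have : x + x = 0 := by rw [← two_mul, h2, zero_mul]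
        exact neg_eq_of_add_eq_zero_left this
      rw [h3, h4]
    · refine ⟨1, ?_⟩
      rw [map_one, one_add_one_eq_two]
      exact h2
  obtain ⟨ℓ, hℓ⟩ : ∃ ℓ : K →ₗ[F] F, ℓ (x₀ + σ x₀) ≠ 0 := by
    by_contra hcon
    push Not at hcon
    exact hx₀ ((Module.forall_dual_apply_eq_zero_iff F _).1 hcon)
  set B : LinearMap.BilinMap F K F :=
    LinearMap.compr₂ ((LinearMap.mul F K).compl₂ σ.toLinearMap) ℓ with hB
  have hBa : ∀ x y, B x y = ℓ (x * σ y) := fun x y => rfl
  set Q : QuadraticForm F K := B.toQuadraticMap with hQ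
  have hQa : ∀ x, Q x = ℓ (x * σ x) := fun x => by
    rw [hQ, LinearMap.BilinMap.toQuadraticMap_apply, hBa]
  have hpol : ∀ x y, polar Q x y = ℓ (x * σ y + σ (x * σ y)) := by
    intro x y
    rw [hQ, LinearMap.BilinMap.polar_toQuadraticMap, hBa, hBa, map_add, map_mul σ, hσ2, mul_comm y]
  refine ⟨Q, ?_, ?_⟩
  · have key : ∀ x : K, (∀ y, polar Q x y = 0) → x = 0 := by
      intro x hx
      by_contra hx0
      have := hx (σ (x₀ / x))
      rw [hpol, hσ2, mul_div_cancel₀ _ hx0] at this
      exact hℓ this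
    refine ⟨key, fun y hy => key y (fun x => ?_)⟩
    rw [polar_comm]
    exact hy x
  · intro x
    rw [hQa, hQa, map_mul σ]
    congr 1
    calc α * x * (σ α * σ x) = (σ α * α) * (x * σ x) := by ring
      _ = x * σ x := by rw [hσα, one_mul]

theorem mulLeft_pow_apply' {K : Type v} [Field K] [Algebra F K] (α : K) (j : ℕ) (v : K) :
    ((LinearMap.mulLeft F α) ^ j) v = α ^ j * v := by
  induction j generalizing v with
  | zero => simp
  | succ j ih =>
    rw [pow_succ, Module.End.mul_apply, ih, LinearMap.mulLeft_apply, pow_succ, mul_assoc]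

/-- the arithmetic behind the free action argument -/
theorem arith_free {q d : ℕ} (hq2 : 2 ∣ q) (hq : 2 ≤ q) (hd : 1 ≤ d)
    (h : q ^ d + 1 ∣ q ^ (2 * d - 1) + q ^ d - q ^ (d - 1) - 1) : False := by
  obtain ⟨e, rfl⟩ : ∃ e, d = e + 1 := ⟨d - 1, by omega⟩
  set P := q ^ e with hP
  have hP1 : 1 ≤ P := Nat.one_le_pow _ _ (by omega)
  have e1 : q ^ (e + 1) = q * P := by rw [pow_succ, mul_comm]
  have e2 : q ^ (2 * (e + 1) - 1) = q * P * P := by
    have : 2 * (e + 1) - 1 = e + e + 1 := by omega
    rw [this, pow_succ, pow_add]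
    ring
  have e3 : e + 1 - 1 = e := by omega
  rw [e1, e2, e3, ← hP] at h
  have hqP : P ≤ q * P := Nat.le_mul_of_pos_left P (by omega)
  have hqP1 : 1 ≤ q * P := by nlinarith
  have e4 : q * P * P + q * P - P - 1 = (P + 1) * (q * P - 1) := by
    obtain ⟨m, hm⟩ : ∃ m, q * P = m + 1 := ⟨q * P - 1, by omega⟩
    rw [hm]
    have : (m + 1) * P + (m + 1) - P - 1 = m * P + m := by
      have : (m + 1) * P = m * P + P := by ring
      omega
    rw [this]
    have : m + 1 - 1 = m := by omega
    rw [this]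
    ring
  rw [e4] at h
  have hcop : Nat.Coprime (q * P + 1) (q * P - 1) := by
    rw [Nat.coprime_iff_gcd_eq_one]
    set g := Nat.gcd (q * P + 1) (q * P - 1) with hg
    have hg1 : g ∣ q * P + 1 := Nat.gcd_dvd_left _ _
    have hg2 : g ∣ q * P - 1 := Nat.gcd_dvd_right _ _
    have hg3 : g ∣ 2 := by
      have := Nat.dvd_sub hg1 hg2
      have e : q * P + 1 - (q * P - 1) = 2 := by omega
      rwa [e] at this
    have hle : g ≤ 2 := Nat.le_of_dvd (by norm_num) hg3
    have hg0 : g ≠ 0 := by
      intro h0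
      rw [h0] at hg3
      simp at hg3
    have hgne2 : g ≠ 2 := by
      intro h2
      rw [h2] at hg1
      have h5 : 2 ∣ q * P := Dvd.dvd.mul_right hq2 P
      have := (Nat.dvd_add_right h5).1 hg1
      simp at this
    omega
  have h6 : q * P + 1 ∣ P + 1 := hcop.dvd_of_dvd_mul_right h
  have h7 := Nat.le_of_dvd (by omega) h6
  have h8 : 2 * P ≤ q * P := Nat.mul_le_mul_right P hq
  omega

section free

variable [Fintype F]

open Cfsg.Agent.Lib.Helper5.QuadGlue in
/-- free action argument: a field extension of degree `2 d` with a nondegenerate quadratic form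
invariant under multiplication by a unit of order `q ^ d + 1` is not of plus type -/
theorem not_isPlus_of_free {K : Type v} [Field K] [Algebra F K] [FiniteDimensional F K]
    (hq2 : 2 ∣ Fintype.card F) (Q : QuadraticForm F K) (hQ : (polarBilin Q).Nondegenerate)
    (d : ℕ) (hd : 1 ≤ d) (hdim : finrank F K = 2 * d) (a : Kˣ)
    (ha : orderOf a = Fintype.card F ^ d + 1) (hinv : ∀ x, Q ((a : K) * x) = Q x) :
    ¬ IsPlus Q := by
  classical
  intro hp
  haveI : Finite K := Module.finite_of_finite F
  haveI : Fintype K := Fintype.ofFinite K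
  set q := Fintype.card F with hq
  have hq2' : 2 ≤ q := Fintype.one_lt_card
  have hdimP : finrank F K = finrank F (Fin d ⊕ Fin d → F) := by
    rw [hdim, Module.finrank_fintype_fun_eq_card, Fintype.card_sum, Fintype.card_fin]
    ring
  obtain ⟨g, hg⟩ := iso_of_type Q (QP d F) hQ (Cfsg.Agent.Lib.Helper2.QuadStd.QP_nondeg d) hdimP
    (by rw [hdim]; exact even_two_mul d) (iff_of_true hp (isPlus_QP d))
  -- the number of singular vectors
  have hcard : Nat.card {v : K // Q v = 0} = q ^ (2 * d - 1) + q ^ d - q ^ (d - 1) := by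
    rw [← Cfsg.Agent.S0289.result (F := F) hq.symm d hd]
    apply Nat.card_congr
    refine Equiv.subtypeEquiv g.toEquiv ?_
    intro v
    show Q v = 0 ↔ Cfsg.quadFormPlus d F (g v) = 0
    rw [← QP_apply, hg]
  -- the group of units preserving `Q`
  let H : Subgroup Kˣ :=
    { carrier := {z | ∀ x, Q ((z : K) * x) = Q x}
      mul_mem' := by
        intro y z hy hz x
        rw [Units.val_mul, mul_assoc, hy, hz]
      one_mem' := by
        intro x
        rw [Units.val_one, one_mul]
      inv_mem' := by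
        intro z hz x
        have := hz ((z⁻¹ : Kˣ) * x)
        rw [← mul_assoc, ← Units.val_mul, mul_inv_cancel, Units.val_one, one_mul] at this
        exact this.symm }
  have haH : a ∈ H := hinv
  let X := {v : K // v ≠ 0 ∧ Q v = 0}
  letI : MulAction H X :=
    { smul := fun z x => ⟨(z.1 : K) * x.1, mul_ne_zero (Units.ne_zero _) x.2.1, by
        rw [z.2]; exact x.2.2⟩
      one_smul := fun x => Subtype.ext (by
        show ((1 : H).1 : K) * x.1 = x.1
        simp)
      mul_smul := fun y z x => Subtype.ext (by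
        show ((y * z : H).1 : K) * x.1 = (y.1 : K) * ((z.1 : K) * x.1)
        rw [Subgroup.coe_mul, Units.val_mul, mul_assoc]) }
  have hfree : ∀ x : X, MulAction.stabilizer H x = ⊥ := by
    intro x
    rw [eq_bot_iff]
    intro z hz
    rw [MulAction.mem_stabilizer_iff] at hz
    have h1 : (z.1 : K) * x.1 = x.1 := congrArg Subtype.val hz
    have h2 : ((z.1 : K) - 1) * x.1 = 0 := by rw [sub_mul, h1, one_mul, sub_self]
    rcases mul_eq_zero.1 h2 with h3 | h3
    · rw [Subgroup.mem_bot]
      apply Subtype.ext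
      apply Units.ext
      rw [sub_eq_zero] at h3
      rw [h3]
      rfl
    · exact absurd h3 x.2.1
  have hdvd1 : Nat.card H ∣ Nat.card X := Cfsg.Agent.Lib.Helper5.BG157.card_dvd_of_free hfree
  have hdvd2 : q ^ d + 1 ∣ Nat.card H := by
    rw [← ha]
    have := orderOf_dvd_natCard (⟨a, haH⟩ : H)
    rwa [Subgroup.orderOf_mk] at this
  have hX : Nat.card X = Nat.card {v : K // Q v = 0} - 1 := by
    rw [Nat.card_eq_fintype_card, Nat.card_eq_fintype_card, Fintype.card_subtype,
      Fintype.card_subtype]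
    have : (Finset.univ.filter fun v : K => v ≠ 0 ∧ Q v = 0) =
        (Finset.univ.filter fun v : K => Q v = 0).erase 0 := by
      ext v
      simp [and_comm]
    rw [this, Finset.card_erase_of_mem]
    simp
  rw [hX, hcard] at hdvd1
  have hq2'' : 2 ∣ q := hq2
  exact arith_free hq2'' hq2' hd (hdvd2.trans hdvd1)

end free

section singer

variable [Fintype F] [CharP F 2]

theorem two_dvd_card : 2 ∣ Fintype.card F := by
  haveI : Fact (Nat.Prime 2) := ⟨Nat.prime_two⟩
  obtain ⟨n, _, hn⟩ := FiniteField.card F 2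
  rw [hn]
  exact dvd_pow_self 2 n.ne_zero

/-- the minus type Singer piece of rank `d` -/
theorem oord_singer_minus (d : ℕ) (hd : 1 ≤ d) :
    OOrd F (Fintype.card F ^ d + 1) (2 * d) False := by
  classical
  haveI : Fact (Nat.Prime 2) := ⟨Nat.prime_two⟩
  haveI : NeZero (2 * d) := ⟨by omega⟩
  set q := Fintype.card F with hq
  have hq2 : 2 ≤ q := Fintype.one_lt_card
  have hcardF : Nat.card F = q := Nat.card_eq_fintype_card
  let K := FiniteField.Extension F 2 (2 * d)
  haveI : Fintype K := Fintype.ofFinite K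
  have hfin : finrank F K = 2 * d := FiniteField.finrank_extension F 2 (2 * d)
  have hcardK : Fintype.card K = q ^ (2 * d) := by
    rw [← Nat.card_eq_fintype_card, FiniteField.natCard_extension, hcardF]
  set σ : K ≃ₐ[F] K := (FiniteField.Extension.frob F 2 (2 * d)) ^ d with hσ
  have hσa : ∀ x : K, σ x = x ^ (q ^ d) := by
    intro x
    rw [hσ, FiniteField.Extension.frob_iterate_apply, hcardF]
  have hσ2 : ∀ x : K, σ (σ x) = x := by
    intro x
    rw [hσa, hσa, ← pow_mul, ← pow_add, ← two_mul, ← hcardK, FiniteField.pow_card]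
  -- a generator of the multiplicative group
  obtain ⟨g, hg⟩ := IsCyclic.exists_generator (α := Kˣ)
  have hordg : orderOf g = q ^ (2 * d) - 1 := by
    rw [orderOf_eq_card_of_forall_mem_zpowers hg, Nat.card_units, Nat.card_eq_fintype_card, hcardK]
  have hqd : 1 ≤ q ^ d := Nat.one_le_pow _ _ (by omega)
  have hfac : q ^ (2 * d) - 1 = (q ^ d + 1) * (q ^ d - 1) := by
    have := Nat.sq_sub_sq (q ^ d) 1
    rw [one_pow, ← pow_mul, mul_comm d 2] at this
    exact this
  have hqd2 : 2 ≤ q ^ d := by
    calc 2 ≤ q := hq2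
      _ = q ^ 1 := (pow_one q).symm
      _ ≤ q ^ d := Nat.pow_le_pow_right (by omega) hd
  set a : Kˣ := g ^ (q ^ d - 1) with ha
  have horda : orderOf a = q ^ d + 1 := by
    rw [ha, orderOf_pow_of_dvd (by omega) (by rw [hordg, hfac]; exact dvd_mul_left _ _), hordg,
      hfac, Nat.mul_div_cancel _ (by omega)]
  have hapow : (a : K) ^ (q ^ d + 1) = 1 := by
    rw [← Units.val_pow_eq_pow_val, ← horda, pow_orderOf_eq_one, Units.val_one]
  have hσα : σ (a : K) * (a : K) = 1 := by
    rw [hσa, ← pow_succ, hapow]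
  have hne : ∃ x : K, σ x ≠ x := by
    refine ⟨(g : K), fun h => ?_⟩
    rw [hσa] at h
    have h1 : (g : K) ^ (q ^ d - 1) = 1 := by
      have h2 : (g : K) ^ (q ^ d - 1) * (g : K) = (g : K) := by
        rw [← pow_succ, Nat.sub_add_cancel hqd, h]
      exact mul_right_cancel₀ (Units.ne_zero g) (h2.trans (one_mul _).symm)
    have h3 : g ^ (q ^ d - 1) = 1 := by
      apply Units.ext
      rw [Units.val_pow_eq_pow_val, h1, Units.val_one]
    have h4 := orderOf_dvd_of_pow_eq_one h3
    rw [hordg, hfac] at h4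
    have h5 := Nat.le_of_dvd (by omega) h4
    have h6 : 1 * (q ^ d - 1) < (q ^ d + 1) * (q ^ d - 1) :=
      Nat.mul_lt_mul_of_pos_right (by omega) (by omega)
    omega
  obtain ⟨Q, hQ, hQα⟩ := exists_form_self' (F := F) (a : K) σ.toAlgHom hσ2 hσα hne
  set A : K →ₗ[F] K := LinearMap.mulLeft F (a : K) with hA
  refine OOrd.of_space Q A hQ hfin (fun v => hQα v) ?_ ?_
  · intro k
    rw [← horda, orderOf_dvd_iff_pow_eq_one]
    have hpow : ∀ v : K, (A ^ k) v = (a : K) ^ k * v := fun v =>
      mulLeft_pow_apply' (F := F) (a : K) k v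
    constructor
    · intro h
      have := h 1
      rw [hpow, mul_one] at this
      apply Units.ext
      rw [Units.val_pow_eq_pow_val, this, Units.val_one]
    · intro h v
      rw [hpow, ← Units.val_pow_eq_pow_val, h, Units.val_one, one_mul]
  · exact iff_of_false
      (not_isPlus_of_free two_dvd_card Q hQ d hd hfin a horda hQα) (fun h => h)

end singer

end Cfsg.Agent.Lib.Carve.Sp8B
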