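import Mathlib
import Cfsg.Agent.Lib.Helper5.Sp8B.Singer

set_option autoImplicit false

/-!
The plus type (split) pieces: the hyperbolic space `K × K*` for an extension `K` of degree `d`, with
a generator of `Kˣ` acting, realises the order `q ^ d - 1` in plus type of dimension `2 d`.
-/

namespace Cfsg.Agent.Lib.Carve.Sp8B

open QuadraticMap Module
open Cfsg.Agent.Lib.Helper5.OrthCls

universe u v

variable {F : Type u} [Field F]

section hyp

variable {W : Type v} [AddCommGroup W] [Module F W]

/-- the hyperbolic bilinear map on `W × W*` -/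
def hypB (F : Type u) [Field F] (W : Type v) [AddCommGroup W] [Module F W] :
    LinearMap.BilinMap F (W × Module.Dual F W) F :=
  LinearMap.mk₂ F (fun p p' => p'.2 p.1)
    (fun p₁ p₂ p' => by simp)
    (fun c p p' => by simp)
    (fun p p₁ p₂ => by simp)
    (fun c p p' => by simp)

/-- the hyperbolic quadratic form on `W × W*` -/
def hypQ (F : Type u) [Field F] (W : Type v) [AddCommGroup W] [Module F W] :
    QuadraticForm F (W × Module.Dual F W) := (hypB F W).toQuadraticMap

theorem hypQ_apply (p : W × Module.Dual F W) : hypQ F W p = p.2 p.1 := by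
  rw [hypQ, LinearMap.BilinMap.toQuadraticMap_apply]
  rfl

theorem hypQ_polar (p p' : W × Module.Dual F W) :
    polar (hypQ F W) p p' = p'.2 p.1 + p.2 p'.1 := by
  rw [hypQ, LinearMap.BilinMap.polar_toQuadraticMap]
  rfl

theorem hypQ_nondeg [FiniteDimensional F W] : (polarBilin (hypQ F W)).Nondegenerate := by
  have key : ∀ p : W × Module.Dual F W, (∀ p', polar (hypQ F W) p p' = 0) → p = 0 := by
    intro p hp
    apply Prod.ext
    · apply (Module.forall_dual_apply_eq_zero_iff F p.1).1
      intro h
      have := hp (0, h)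
      rw [hypQ_polar] at this
      simpa using this
    · apply LinearMap.ext
      intro y
      have := hp (y, 0)
      rw [hypQ_polar] at this
      simpa using this
  refine ⟨key, fun y hy => key y (fun x => ?_)⟩
  rw [polar_comm]
  exact hy x

theorem hypQ_isPlus [FiniteDimensional F W] : IsPlus (hypQ F W) := by
  refine ⟨LinearMap.range (LinearMap.inl F W (Module.Dual F W)), ?_, ?_⟩
  · rintro _ ⟨w, rfl⟩
    rw [hypQ_apply]
    simp
  · rw [LinearMap.finrank_range_of_inj LinearMap.inl_injective, Module.finrank_prod,
      Subspace.dual_finrank_eq]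
    ring

theorem dualMap_pow_apply (T : Module.End F W) (k : ℕ) (φ : Module.Dual F W) (w : W) :
    ((T.dualMap : Module.End F (Module.Dual F W)) ^ k) φ w = φ ((T ^ k) w) := by
  induction k generalizing φ with
  | zero => simp
  | succ k ih =>
    rw [pow_succ, Module.End.mul_apply, ih, LinearMap.dualMap_apply, pow_succ',
      Module.End.mul_apply]

end hyp

section split

variable [Fintype F] [CharP F 2]

/-- the plus type split piece of rank `d` -/
theorem oord_split_plus (d : ℕ) (hd : 1 ≤ d) : OOrd F (Fintype.card F ^ d - 1) (2 * d) True := by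
  classical
  haveI : Fact (Nat.Prime 2) := ⟨Nat.prime_two⟩
  haveI : NeZero d := ⟨by omega⟩
  set q := Fintype.card F with hq
  have hcardF : Nat.card F = q := Nat.card_eq_fintype_card
  let K := FiniteField.Extension F 2 d
  haveI : Fintype K := Fintype.ofFinite K
  have hfin : finrank F K = d := FiniteField.finrank_extension F 2 d
  have hcardK : Fintype.card K = q ^ d := by
    rw [← Nat.card_eq_fintype_card, FiniteField.natCard_extension, hcardF]
  obtain ⟨g, hg⟩ := IsCyclic.exists_generator (α := Kˣ)
  have hordg : orderOf g = q ^ d - 1 := by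
    rw [orderOf_eq_card_of_forall_mem_zpowers hg, Nat.card_units, Nat.card_eq_fintype_card, hcardK]
  set T : Module.End F K := LinearMap.mulLeft F (g : K) with hT
  set T' : Module.End F K := LinearMap.mulLeft F ((g⁻¹ : Kˣ) : K) with hT'
  have hTpow : ∀ (k : ℕ) (v : K), (T ^ k) v = (g : K) ^ k * v := fun k v =>
    mulLeft_pow_apply' (F := F) (g : K) k v
  have hT'pow : ∀ (k : ℕ) (v : K), (T' ^ k) v = ((g⁻¹ : Kˣ) : K) ^ k * v := fun k v =>
    mulLeft_pow_apply' (F := F) ((g⁻¹ : Kˣ) : K) k v
  set A : Module.End F (K × Module.Dual F K) := T.prodMap T'.dualMap with hA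
  refine OOrd.of_space (hypQ F K) A hypQ_nondeg ?_ ?_ ?_ (iff_of_true hypQ_isPlus trivial)
  · rw [Module.finrank_prod, Subspace.dual_finrank_eq, hfin]
    ring
  · intro p
    rw [hypQ_apply, hypQ_apply, hA]
    show (T'.dualMap p.2) (T p.1) = p.2 p.1
    rw [LinearMap.dualMap_apply, hT, hT', LinearMap.mulLeft_apply, LinearMap.mulLeft_apply,
      ← mul_assoc, ← Units.val_mul, inv_mul_cancel, Units.val_one, one_mul]
  · intro k
    rw [← hordg, orderOf_dvd_iff_pow_eq_one]
    have hApow : ∀ p : K × Module.Dual F K,
        (A ^ k) p = ((T ^ k) p.1, ((T'.dualMap : Module.End F (Module.Dual F K)) ^ k) p.2) :=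
      fun p => Cfsg.Agent.Lib.Helper5.SpReal.prodMap_pow_apply T T'.dualMap k p
    constructor
    · intro h
      have h1 := congrArg Prod.fst (h (1, 0))
      rw [hApow] at h1
      simp only at h1
      rw [hTpow, mul_one] at h1
      apply Units.ext
      rw [Units.val_pow_eq_pow_val, h1, Units.val_one]
    · intro h p
      rw [hApow]
      have h1 : (g : K) ^ k = 1 := by
        rw [← Units.val_pow_eq_pow_val, h, Units.val_one]
      have h2 : ((g⁻¹ : Kˣ) : K) ^ k = 1 := by
        rw [← Units.val_pow_eq_pow_val, inv_pow, h, inv_one, Units.val_one]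
      apply Prod.ext
      · simp only
        rw [hTpow, h1, one_mul]
      · simp only
        apply LinearMap.ext
        intro w
        rw [dualMap_pow_apply, hT'pow, h2, one_mul]

end split

end Cfsg.Agent.Lib.Carve.Sp8B
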