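import Mathlib
import Cfsg.Agent.Lib.Helper5.Sp8B.Basic

set_option autoImplicit false

/-!
The Siegel lift in characteristic two: from an isometry `h` of `(V, Q)` of exact order `M` and a
vector `w` with `∑_{i<M} h^i w ≠ 0` we get an isometry of `H ⊥ V` (`H` the hyperbolic plane) of exact
order `2 M`.
-/

namespace Cfsg.Agent.Lib.Carve.Sp8B

open QuadraticMap Module
open Cfsg.Agent.Lib.Helper5.OrthCls

universe u v

variable {F : Type u} [Field F]

section plane

/-- a bilinear map whose quadratic form is `x * y` -/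
def hypPlaneB (F : Type u) [Field F] : LinearMap.BilinMap F (F × F) F :=
  LinearMap.mk₂ F (fun p p' => p.1 * p'.2)
    (fun p₁ p₂ p' => by simp [add_mul])
    (fun c p p' => by simp [mul_assoc])
    (fun p p₁ p₂ => by simp [mul_add])
    (fun c p p' => by simp; ring)

/-- the hyperbolic plane -/
def hypPlane (F : Type u) [Field F] : QuadraticForm F (F × F) := (hypPlaneB F).toQuadraticMap

theorem hypPlane_apply (p : F × F) : hypPlane F p = p.1 * p.2 := by
  rw [hypPlane, LinearMap.BilinMap.toQuadraticMap_apply]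
  rfl

theorem hypPlane_polar (p p' : F × F) :
    polar (hypPlane F) p p' = p.1 * p'.2 + p'.1 * p.2 := by
  rw [hypPlane, LinearMap.BilinMap.polar_toQuadraticMap]
  rfl

theorem hypPlane_nondeg : (polarBilin (hypPlane F)).Nondegenerate := by
  have key : ∀ p : F × F, (∀ p', polar (hypPlane F) p p' = 0) → p = 0 := by
    intro p hp
    apply Prod.ext
    · have := hp (0, 1)
      rw [hypPlane_polar] at this
      simpa using this
    · have := hp (1, 0)
      rw [hypPlane_polar] at this
      simpa using this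
  refine ⟨key, fun y hy => key y (fun x => ?_)⟩
  rw [polar_comm]
  exact hy x

theorem finrank_plane : finrank F (F × F) = 2 := by
  rw [Module.finrank_prod, Module.finrank_self]

theorem hypPlane_isPlus : IsPlus (hypPlane F) := by
  refine ⟨LinearMap.range (LinearMap.inl F F F), ?_, ?_⟩
  · rintro _ ⟨x, rfl⟩
    rw [hypPlane_apply]
    simp
  · rw [LinearMap.finrank_range_of_inj LinearMap.inl_injective, finrank_plane,
      Module.finrank_self]

end plane

section lift

variable {V : Type v} [AddCommGroup V] [Module F V] (Q : QuadraticForm F V) (h : V →ₗ[F] V)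
  (w : V)

/-- the lifted form on `H ⊥ V` -/
def liftQ : QuadraticForm F ((F × F) × V) := (hypPlane F).prod Q

theorem liftQ_apply (p : (F × F) × V) : liftQ Q p = p.1.1 * p.1.2 + Q p.2 := by
  rw [liftQ, prod_apply, hypPlane_apply]

/-- the Siegel lift of `h` along `w` -/
def liftMap : ((F × F) × V) →ₗ[F] ((F × F) × V) :=
  LinearMap.prod
    (LinearMap.prod
      ((LinearMap.fst F F F).comp (LinearMap.fst F (F × F) V) +
        (((polarBilin Q).flip w).comp h).comp (LinearMap.snd F (F × F) V) +
        (Q w) • ((LinearMap.snd F F F).comp (LinearMap.fst F (F × F) V)))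
      ((LinearMap.snd F F F).comp (LinearMap.fst F (F × F) V)))
    (h.comp (LinearMap.snd F (F × F) V) +
      ((LinearMap.snd F F F).comp (LinearMap.fst F (F × F) V)).smulRight w)

theorem liftMap_apply (p : (F × F) × V) :
    liftMap Q h w p =
      ((p.1.1 + polar Q (h p.2) w + Q w * p.1.2, p.1.2), h p.2 + p.1.2 • w) := by
  simp [liftMap, polarBilin_apply_apply]

theorem liftMap_iso [CharP F 2] (hQ : ∀ v, Q (h v) = Q v) (p : (F × F) × V) :
    liftQ Q (liftMap Q h w p) = liftQ Q p := by
  rw [liftMap_apply, liftQ_apply, liftQ_apply]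
  simp only
  have e1 : Q (h p.2 + p.1.2 • w) = Q (h p.2) + Q (p.1.2 • w) + polar Q (h p.2) (p.1.2 • w) := by
    simp only [polar]
    ring
  rw [e1, hQ, QuadraticMap.map_smul, polar_smul_right, smul_eq_mul, smul_eq_mul]
  have h2 : (2 : F) = 0 := CharTwo.two_eq_zero
  linear_combination (polar Q (h p.2) w * p.1.2 + Q w * p.1.2 * p.1.2) * h2

/-- partial sums of the orbit of `w` -/
def orbSum (n : ℕ) : V := ∑ i ∈ Finset.range n, (h ^ i) w

theorem orbSum_succ (n : ℕ) : orbSum h w (n + 1) = h (orbSum h w n) + w := by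
  rw [orbSum, Finset.sum_range_succ', orbSum, map_sum]
  congr 1
  apply Finset.sum_congr rfl
  intro i _
  rw [pow_succ', Module.End.mul_apply]

theorem liftMap_pow (n : ℕ) (p : (F × F) × V) :
    ((liftMap Q h w ^ n) p).1.2 = p.1.2 ∧
      ((liftMap Q h w ^ n) p).2 = (h ^ n) p.2 + p.1.2 • orbSum h w n := by
  induction n with
  | zero => simp [orbSum]
  | succ n ih =>
    rw [pow_succ', Module.End.mul_apply, liftMap_apply]
    simp only
    refine ⟨ih.1, ?_⟩
    rw [ih.1, ih.2, map_add, map_smul, orbSum_succ, smul_add, pow_succ', Module.End.mul_apply]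
    abel

theorem pow_mul_apply_id {M : ℕ} (hM : ∀ v, (h ^ M) v = v) (t : ℕ) (v : V) :
    (h ^ (M * t)) v = v := by
  induction t with
  | zero => simp
  | succ t ih => rw [Nat.mul_succ, pow_add, Module.End.mul_apply, hM, ih]

theorem orbSum_mul {M : ℕ} (hM : ∀ v, (h ^ M) v = v) (t : ℕ) :
    orbSum h w (M * t) = t • orbSum h w M := by
  induction t with
  | zero => simp [orbSum]
  | succ t ih =>
    rw [Nat.mul_succ, orbSum, Finset.sum_range_add, ← orbSum, ih, succ_nsmul]
    congr 1
    rw [orbSum]
    apply Finset.sum_congr rfl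
    intro i _
    rw [add_comm, pow_add, Module.End.mul_apply, pow_mul_apply_id h hM]

theorem liftMap_pow_iso [CharP F 2] (hQ : ∀ v, Q (h v) = Q v) (n : ℕ) (p : (F × F) × V) :
    liftQ Q ((liftMap Q h w ^ n) p) = liftQ Q p := by
  induction n with
  | zero => simp
  | succ n ih => rw [pow_succ', Module.End.mul_apply, liftMap_iso Q h w hQ, ih]

theorem two_nsmul_eq_zero [CharP F 2] (x : V) : 2 • x = 0 := by
  rw [← Nat.cast_smul_eq_nsmul F 2 x]
  have h2 : ((2 : ℕ) : F) = 0 := by
    have := CharTwo.two_eq_zero (R := F)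
    exact_mod_cast this
  rw [h2, zero_smul]

/-- the lift has exact order `2 M` -/
theorem liftMap_order [CharP F 2] (hQ : ∀ v, Q (h v) = Q v) {M : ℕ}
    (hord : ∀ k : ℕ, (∀ v, (h ^ k) v = v) ↔ M ∣ k) (hS : orbSum h w M ≠ 0) (k : ℕ) :
    (∀ p, (liftMap Q h w ^ k) p = p) ↔ 2 * M ∣ k := by
  have hM : ∀ v, (h ^ M) v = v := (hord M).2 dvd_rfl
  constructor
  · intro hk
    have h1 : ∀ v, (h ^ k) v = v := by
      intro v
      have := (liftMap_pow Q h w k ((0, 0), v)).2
      rw [hk] at this
      simpa using this.symm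
    obtain ⟨t, rfl⟩ := (hord k).1 h1
    have h2 := (liftMap_pow Q h w (M * t) ((0, 1), 0)).2
    rw [hk, orbSum_mul h w hM] at h2
    simp only [map_zero, zero_add, one_smul] at h2
    rw [← Nat.cast_smul_eq_nsmul F t] at h2
    have h3 : (t : F) = 0 := by
      rcases smul_eq_zero.1 h2.symm with h3 | h3
      · exact h3
      · exact absurd h3 hS
    obtain ⟨s, rfl⟩ := (CharP.cast_eq_zero_iff F 2 t).1 h3
    exact ⟨s, by ring⟩
  · rintro ⟨s, rfl⟩
    have key : ∀ p, (liftMap Q h w ^ (2 * M)) p = p := by
      have hy : ∀ p : (F × F) × V, p.1.2 ≠ 0 → (liftMap Q h w ^ (2 * M)) p = p := by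
        intro p hp
        obtain ⟨e1, e2⟩ := liftMap_pow Q h w (2 * M) p
        have e3 := liftMap_pow_iso Q h w hQ (2 * M) p
        rw [mul_comm 2 M, orbSum_mul h w hM, two_nsmul_eq_zero (F := F), smul_zero, add_zero,
          pow_mul_apply_id h hM] at e2
        rw [mul_comm 2 M] at e1 e3
        rw [liftQ_apply, liftQ_apply, e1, e2] at e3
        have e4 : ((liftMap Q h w ^ (M * 2)) p).1.1 = p.1.1 :=
          mul_right_cancel₀ hp (add_right_cancel e3)
        rw [mul_comm 2 M]
        exact Prod.ext (Prod.ext e4 e1) e2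
      intro p
      by_cases hp : p.1.2 = 0
      · have e : p = ((p.1.1, 1), p.2) - ((0, 1), 0) := by
          apply Prod.ext
          · apply Prod.ext
            · simp
            · simp [hp]
          · simp
        rw [e, map_sub, hy _ (by simp), hy _ (by simp)]
      · exact hy p hp
    intro p
    rw [pow_mul]
    induction s with
    | zero => simp
    | succ s ih => rw [pow_succ, Module.End.mul_apply, key, ih]

end lift

end Cfsg.Agent.Lib.Carve.Sp8B
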