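import Mathlib
import Cfsg.Agent.Lib.Helper5.Sp8B.Lift
import Cfsg.Agent.Lib.Helper5.OrthCls8

set_option autoImplicit false

/-!
The unipotent pieces: isometries of exact order 2, 4, 8 on spaces of dimension 2, 4, 6 of either type.
-/

namespace Cfsg.Agent.Lib.Carve.Sp8B

open QuadraticMap Module
open Cfsg.Agent.Lib.Helper5.OrthCls

universe u

variable {F : Type u} [Field F]

section bin

variable (ζ : F)

/-- a bilinear map whose quadratic form is `z₁² + z₁ z₂ + ζ z₂²` -/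
def binB : LinearMap.BilinMap F (F × F) F :=
  LinearMap.mk₂ F (fun p p' => p.1 * p'.1 + p.1 * p'.2 + ζ * p.2 * p'.2)
    (fun p₁ p₂ p' => by simp; ring)
    (fun c p p' => by simp; ring)
    (fun p p₁ p₂ => by simp; ring)
    (fun c p p' => by simp; ring)

/-- the binary form `z₁² + z₁ z₂ + ζ z₂²` -/
def binQ : QuadraticForm F (F × F) := (binB ζ).toQuadraticMap

theorem binQ_apply (p : F × F) : binQ ζ p = p.1 * p.1 + p.1 * p.2 + ζ * p.2 * p.2 := by
  rw [binQ, LinearMap.BilinMap.toQuadraticMap_apply]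
  rfl

theorem binQ_polar [CharP F 2] (p p' : F × F) :
    polar (binQ ζ) p p' = p.1 * p'.2 + p.2 * p'.1 := by
  rw [binQ, LinearMap.BilinMap.polar_toQuadraticMap]
  show p.1 * p'.1 + p.1 * p'.2 + ζ * p.2 * p'.2 + (p'.1 * p.1 + p'.1 * p.2 + ζ * p'.2 * p.2) = _
  have h2 : (2 : F) = 0 := CharTwo.two_eq_zero
  linear_combination (p.1 * p'.1 + ζ * p.2 * p'.2) * h2

theorem binQ_nondeg [CharP F 2] : (polarBilin (binQ ζ)).Nondegenerate := by
  have key : ∀ p : F × F, (∀ p', polar (binQ ζ) p p' = 0) → p = 0 := by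
    intro p hp
    apply Prod.ext
    · have := hp (0, 1)
      rw [binQ_polar] at this
      simpa using this
    · have := hp (1, 0)
      rw [binQ_polar] at this
      simpa using this
  refine ⟨key, fun y hy => key y (fun x => ?_)⟩
  rw [polar_comm]
  exact hy x

theorem binQ_isPlus_zero : IsPlus (binQ (0 : F)) := by
  refine ⟨LinearMap.range (LinearMap.inr F F F), ?_, ?_⟩
  · rintro _ ⟨x, rfl⟩
    rw [binQ_apply]
    simp
  · rw [LinearMap.finrank_range_of_inj LinearMap.inr_injective, finrank_plane,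
      Module.finrank_self]

theorem binQ_not_isPlus
    (hζ : ∀ z₁ z₂ : F, z₁ ^ 2 + 1 * z₁ * z₂ + ζ * z₂ ^ 2 = 0 → z₁ = 0 ∧ z₂ = 0) :
    ¬ IsPlus (binQ ζ) := by
  rintro ⟨U, hU, hd⟩
  rw [finrank_plane] at hd
  have hU0 : U ≠ ⊥ := by
    intro h
    rw [h, finrank_bot] at hd
    omega
  obtain ⟨u, hu, hu0⟩ := Submodule.exists_mem_ne_zero_of_ne_bot hU0
  have h1 := hU u hu
  rw [binQ_apply] at h1
  have h2 := hζ u.1 u.2 (by rw [← h1]; ring)
  exact hu0 (Prod.ext h2.1 h2.2)

/-- the reflection `(z₁, z₂) ↦ (z₁ + z₂, z₂)` -/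
def binH (F : Type u) [Field F] : (F × F) →ₗ[F] (F × F) :=
  LinearMap.prod (LinearMap.fst F F F + LinearMap.snd F F F) (LinearMap.snd F F F)

theorem binH_apply (p : F × F) : binH F p = (p.1 + p.2, p.2) := rfl

theorem binH_iso [CharP F 2] (p : F × F) : binQ ζ (binH F p) = binQ ζ p := by
  rw [binH_apply, binQ_apply, binQ_apply]
  simp only
  have h2 : (2 : F) = 0 := CharTwo.two_eq_zero
  linear_combination (p.1 * p.2 + p.2 * p.2) * h2

theorem binH_sq [CharP F 2] (p : F × F) : binH F (binH F p) = p := by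
  rw [binH_apply, binH_apply]
  simp only
  rw [add_assoc, CharTwo.add_self_eq_zero, add_zero]

theorem binH_pow [CharP F 2] (k : ℕ) (p : F × F) :
    (binH F ^ k) p = if Even k then p else binH F p := by
  induction k with
  | zero => simp
  | succ k ih =>
    rw [pow_succ', Module.End.mul_apply, ih]
    by_cases hk : Even k
    · rw [if_pos hk, if_neg (by rw [Nat.even_add_one]; exact not_not.2 hk)]
    · rw [if_neg hk, if_pos (by rw [Nat.even_add_one]; exact hk), binH_sq]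

theorem binH_order [CharP F 2] (k : ℕ) : (∀ p, (binH F ^ k) p = p) ↔ 2 ∣ k := by
  rw [← even_iff_two_dvd]
  constructor
  · intro h
    by_contra hk
    have := h (0, 1)
    rw [binH_pow, if_neg hk, binH_apply] at this
    have h1 := congrArg Prod.fst this
    simp at h1
  · intro hk p
    rw [binH_pow, if_pos hk]

theorem binH_orbSum [CharP F 2] : orbSum (binH F) ((0, 1) : F × F) 2 = (1, 0) := by
  rw [orbSum, Finset.sum_range_succ, Finset.sum_range_one, pow_zero, pow_one, Module.End.one_apply,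
    binH_apply]
  apply Prod.ext
  · simp
  · simp only [Prod.snd_add]
    exact CharTwo.add_self_eq_zero 1

end bin

section levels

variable [CharP F 2] (ζ : F)

/-- the form on the four dimensional space -/
def Q4 : QuadraticForm F ((F × F) × (F × F)) := liftQ (binQ ζ)

/-- the isometry of order four -/
def g4 : ((F × F) × (F × F)) →ₗ[F] ((F × F) × (F × F)) := liftMap (binQ ζ) (binH F) (0, 1)

theorem g4_apply (p : (F × F) × (F × F)) :
    g4 ζ p = ((p.1.1 + (p.2.1 + p.2.2) + ζ * p.1.2, p.1.2), (p.2.1 + p.2.2, p.2.2 + p.1.2)) := by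
  rw [g4, liftMap_apply, binQ_polar, binQ_apply, binH_apply]
  simp

theorem g4_iso (p : (F × F) × (F × F)) : Q4 ζ (g4 ζ p) = Q4 ζ p :=
  liftMap_iso (binQ ζ) (binH F) (0, 1) (binH_iso ζ) p

theorem g4_order (k : ℕ) : (∀ p, (g4 ζ ^ k) p = p) ↔ 4 ∣ k := by
  have := liftMap_order (binQ ζ) (binH F) (0, 1) (binH_iso ζ) (M := 2) binH_order
    (by rw [binH_orbSum]; simp) k
  exact this

theorem g4_orbSum : orbSum (g4 ζ) (((0, 1), (0, 0)) : (F × F) × (F × F)) 4 ≠ 0 := by
  have h2 : (2 : F) = 0 := CharTwo.two_eq_zero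
  have e1 : g4 ζ (((0, 1), (0, 0)) : (F × F) × (F × F)) = ((ζ, 1), (0, 1)) := by
    rw [g4_apply]
    simp
  have e2 : g4 ζ (((ζ, 1), (0, 1)) : (F × F) × (F × F)) = ((1, 1), (1, 0)) := by
    rw [g4_apply]
    simp only [zero_add, mul_one, Prod.mk.injEq, and_true, true_and]
    refine ⟨?_, ?_⟩
    · linear_combination ζ * h2
    · linear_combination h2
  have e3 : g4 ζ (((1, 1), (1, 0)) : (F × F) × (F × F)) = ((ζ, 1), (1, 1)) := by
    rw [g4_apply]
    simp only [add_zero, mul_one, zero_add, Prod.mk.injEq, and_true, true_and]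
    linear_combination h2
  have hp2 : (g4 ζ ^ 2) (((0, 1), (0, 0)) : (F × F) × (F × F)) = ((1, 1), (1, 0)) := by
    rw [pow_succ', pow_one, Module.End.mul_apply, e1, e2]
  have hp3 : (g4 ζ ^ 3) (((0, 1), (0, 0)) : (F × F) × (F × F)) = ((ζ, 1), (1, 1)) := by
    rw [pow_succ', Module.End.mul_apply, hp2, e3]
  intro h
  have h3 : (orbSum (g4 ζ) (((0, 1), (0, 0)) : (F × F) × (F × F)) 4).1.1 = 1 := by
    rw [orbSum, Finset.sum_range_succ, Finset.sum_range_succ, Finset.sum_range_succ,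
      Finset.sum_range_one, hp3, hp2, pow_one, e1, pow_zero, Module.End.one_apply]
    simp only [Prod.fst_add, zero_add]
    linear_combination ζ * h2
  rw [h] at h3
  simp at h3

/-- the form on the six dimensional space -/
def Q6 : QuadraticForm F ((F × F) × ((F × F) × (F × F))) := liftQ (Q4 ζ)

/-- the isometry of order eight -/
def g8 : ((F × F) × ((F × F) × (F × F))) →ₗ[F] ((F × F) × ((F × F) × (F × F))) :=
  liftMap (Q4 ζ) (g4 ζ) ((0, 1), (0, 0))

theorem g8_iso (p : (F × F) × ((F × F) × (F × F))) : Q6 ζ (g8 ζ p) = Q6 ζ p :=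
  liftMap_iso (Q4 ζ) (g4 ζ) _ (g4_iso ζ) p

theorem g8_order (k : ℕ) : (∀ p, (g8 ζ ^ k) p = p) ↔ 8 ∣ k :=
  liftMap_order (Q4 ζ) (g4 ζ) ((0, 1), (0, 0)) (g4_iso ζ) (M := 4) (g4_order ζ) (g4_orbSum ζ) k

end levels

section oord

variable [Fintype F] [CharP F 2]

theorem liftQ_nondeg {V : Type u} [AddCommGroup V] [Module F V] (Q : QuadraticForm F V)
    (hQ : (polarBilin Q).Nondegenerate) : (polarBilin (liftQ Q)).Nondegenerate :=
  prod_nondeg _ _ hypPlane_nondeg hQ

theorem liftQ_isPlus_iff {V : Type u} [AddCommGroup V] [Module F V] [FiniteDimensional F V]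
    (Q : QuadraticForm F V) (hQ : (polarBilin Q).Nondegenerate) (hev : Even (finrank F V)) :
    IsPlus (liftQ Q) ↔ IsPlus Q := by
  rw [liftQ, isPlus_prod_iff hypPlane_nondeg hQ (by rw [finrank_plane]; decide) hev]
  exact ⟨fun h => h.1 hypPlane_isPlus, fun h => iff_of_true hypPlane_isPlus h⟩

/-- the unipotent pieces, for a parameter `ζ` -/
theorem oord_unip_of (ζ : F) (P : Prop) (hP : IsPlus (binQ ζ) ↔ P) :
    OOrd F 2 2 P ∧ OOrd F 4 4 P ∧ OOrd F 8 6 P := by
  have hn2 : finrank F (F × F) = 2 := finrank_plane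
  have hn4 : finrank F ((F × F) × (F × F)) = 4 := by rw [Module.finrank_prod, hn2]
  have hn6 : finrank F ((F × F) × ((F × F) × (F × F))) = 6 := by
    rw [Module.finrank_prod, hn4, hn2]
  have hQ2 := binQ_nondeg ζ
  have hQ4 : (polarBilin (Q4 ζ)).Nondegenerate := liftQ_nondeg _ hQ2
  have hQ6 : (polarBilin (Q6 ζ)).Nondegenerate := liftQ_nondeg _ hQ4
  have hP4 : IsPlus (Q4 ζ) ↔ P :=
    (liftQ_isPlus_iff _ hQ2 (by rw [hn2]; decide)).trans hP
  have hP6 : IsPlus (Q6 ζ) ↔ P :=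
    (liftQ_isPlus_iff _ hQ4 (by rw [hn4]; decide)).trans hP4
  exact ⟨⟨F × F, inferInstance, inferInstance, inferInstance, binQ ζ, binH F, hQ2, hn2,
      binH_iso ζ, binH_order, hP⟩,
    ⟨_, inferInstance, inferInstance, inferInstance, Q4 ζ, g4 ζ, hQ4, hn4, g4_iso ζ, g4_order ζ,
      hP4⟩,
    ⟨_, inferInstance, inferInstance, inferInstance, Q6 ζ, g8 ζ, hQ6, hn6, g8_iso ζ, g8_order ζ,
      hP6⟩⟩

theorem oord_unip_plus : OOrd F 2 2 True ∧ OOrd F 4 4 True ∧ OOrd F 8 6 True :=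
  oord_unip_of 0 True (iff_of_true binQ_isPlus_zero trivial)

theorem oord_unip_minus : OOrd F 2 2 False ∧ OOrd F 4 4 False ∧ OOrd F 8 6 False := by
  obtain ⟨ζ, hζ⟩ := exists_aniso (F := F)
  exact oord_unip_of ζ False (iff_of_false (binQ_not_isPlus ζ hζ) (fun h => h))

end oord

end Cfsg.Agent.Lib.Carve.Sp8B
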