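import Mathlib
import Cfsg.Agent.Lib.Helper5.Sp8B.Unip
import Cfsg.Agent.Lib.Helper5.Sp8B.Split
import Cfsg.Agent.Lib.Helper5.Sp8A.Arith

set_option autoImplicit false

/-!
Every one of the twelve numbers of `L8 q` is the order of an element of the isometry group of the
minus type form in dimension eight (`q` even).
-/

namespace Cfsg.Agent.Lib.Carve.Sp8B

open Cfsg.Agent.Lib.Carve.Sp8A

universe u

section arith

variable {q : ℕ}

theorem coprime_of_odd {a b : ℕ} (ha : Odd a) (h : ∀ g, g ∣ a → g ∣ b → g ∣ 2) :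
    Nat.Coprime a b := by
  rw [Nat.coprime_iff_gcd_eq_one]
  set g := Nat.gcd a b with hg
  have h1 : g ∣ a := Nat.gcd_dvd_left _ _
  have h2 : g ∣ b := Nat.gcd_dvd_right _ _
  have h3 := h g h1 h2
  have hle : g ≤ 2 := Nat.le_of_dvd (by norm_num) h3
  have hg0 : g ≠ 0 := by
    intro h0
    rw [h0] at h3
    simp at h3
  have hg2 : g ≠ 2 := by
    intro h0
    rw [h0] at h1
    obtain ⟨k, hk⟩ := ha
    omega
  omega

theorem odd_pow_add (hq2 : 2 ∣ q) (k : ℕ) (hk : 1 ≤ k) : Odd (q ^ k + 1) := by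
  have : 2 ∣ q ^ k := dvd_pow hq2 (by omega)
  obtain ⟨m, hm⟩ := this
  exact ⟨m, by omega⟩

theorem odd_pow_sub (hq2 : 2 ∣ q) (hq : 2 ≤ q) (k : ℕ) (hk : 1 ≤ k) : Odd (q ^ k - 1) := by
  have : 2 ∣ q ^ k := dvd_pow hq2 (by omega)
  obtain ⟨m, hm⟩ := this
  have h1 : 1 ≤ q ^ k := Nat.one_le_pow _ _ (by omega)
  exact ⟨m - 1, by omega⟩

theorem dvd_two_of_add_sub {g a : ℕ} (ha : 1 ≤ a) (h1 : g ∣ a + 1) (h2 : g ∣ a - 1) : g ∣ 2 := by
  have := Nat.dvd_sub h1 h2
  have e : a + 1 - (a - 1) = 2 := by omega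
  rwa [e] at this

theorem coprime_pow_two_odd {a : ℕ} (ha : Odd a) (k : ℕ) : Nat.Coprime (2 ^ k) a := by
  apply Nat.Coprime.pow_left
  exact (Nat.coprime_two_left).2 ha

theorem q_pow_pos (hq : 2 ≤ q) (k : ℕ) : 1 ≤ q ^ k := Nat.one_le_pow _ _ (by omega)

variable (hq2 : 2 ∣ q) (hq : 2 ≤ q)

include hq2 hq

theorem lcm1 : Nat.lcm 8 (q ^ 1 + 1) = 8 * (q + 1) := by
  rw [pow_one]
  have : Nat.Coprime 8 (q + 1) := by
    have := coprime_pow_two_odd (odd_pow_add hq2 1 le_rfl) 3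
    rwa [pow_one] at this
  exact this.lcm_eq_mul

theorem lcm2 : Nat.lcm 8 (q ^ 1 - 1) = 8 * (q - 1) := by
  rw [pow_one]
  have : Nat.Coprime 8 (q - 1) := by
    have := coprime_pow_two_odd (odd_pow_sub hq2 hq 1 le_rfl) 3
    rwa [pow_one] at this
  exact this.lcm_eq_mul

theorem lcm3 : Nat.lcm 4 (q ^ 2 + 1) = 4 * (q ^ 2 + 1) :=
  (coprime_pow_two_odd (odd_pow_add hq2 2 (by omega)) 2).lcm_eq_mul

theorem lcm4 : Nat.lcm 4 (q ^ 2 - 1) = 4 * (q ^ 2 - 1) :=
  (coprime_pow_two_odd (odd_pow_sub hq2 hq 2 (by omega)) 2).lcm_eq_mul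

theorem lcm5 : Nat.lcm 2 (q ^ 3 + 1) = 2 * (q ^ 3 + 1) :=
  (coprime_pow_two_odd (odd_pow_add hq2 3 (by omega)) 1).lcm_eq_mul

theorem lcm6 : Nat.lcm 2 (q ^ 3 - 1) = 2 * (q ^ 3 - 1) :=
  (coprime_pow_two_odd (odd_pow_sub hq2 hq 3 (by omega)) 1).lcm_eq_mul

theorem lcm7 : Nat.lcm (Nat.lcm 2 (q ^ 2 + 1)) (q ^ 1 + 1) = 2 * (q ^ 2 + 1) * (q + 1) := by
  have e := (coprime_pow_two_odd (odd_pow_add hq2 2 (by omega)) 1).lcm_eq_mul
  rw [pow_one] at e
  rw [pow_one, e]
  have h1 : Nat.Coprime (q + 1) 2 := by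
    have := (coprime_pow_two_odd (odd_pow_add hq2 1 le_rfl) 1).symm
    rwa [pow_one, pow_one] at this
  have h2 : Nat.Coprime (q + 1) (q ^ 2 + 1) := by
    apply coprime_of_odd
    · have := odd_pow_add hq2 1 le_rfl
      rwa [pow_one] at this
    · intro g hg1 hg2
      exact dvd_two_of_add_sub (q_pow_pos hq 2) hg2 (hg1.trans d_add_one_sq)
  exact (Nat.Coprime.mul_right h1 h2).symm.lcm_eq_mul

theorem lcm8 : Nat.lcm (Nat.lcm 2 (q ^ 2 + 1)) (q ^ 1 - 1) = 2 * (q ^ 2 + 1) * (q - 1) := by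
  have e := (coprime_pow_two_odd (odd_pow_add hq2 2 (by omega)) 1).lcm_eq_mul
  rw [pow_one] at e
  rw [pow_one, e]
  have h1 : Nat.Coprime (q - 1) 2 := by
    have := (coprime_pow_two_odd (odd_pow_sub hq2 hq 1 le_rfl) 1).symm
    rwa [pow_one, pow_one] at this
  have h2 : Nat.Coprime (q - 1) (q ^ 2 + 1) := by
    apply coprime_of_odd
    · have := odd_pow_sub hq2 hq 1 le_rfl
      rwa [pow_one] at this
    · intro g hg1 hg2
      exact dvd_two_of_add_sub (q_pow_pos hq 2) hg2 (hg1.trans (d_sub_one 2))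
  exact (Nat.Coprime.mul_right h1 h2).symm.lcm_eq_mul

theorem lcm10 : Nat.lcm (q ^ 2 + 1) (q ^ 2 - 1) = q ^ 4 - 1 := by
  have h : Nat.Coprime (q ^ 2 + 1) (q ^ 2 - 1) := by
    apply coprime_of_odd (odd_pow_add hq2 2 (by omega))
    intro g hg1 hg2
    exact dvd_two_of_add_sub (q_pow_pos hq 2) hg1 hg2
  rw [h.lcm_eq_mul, d_four_sub]

theorem lcm11 : Nat.lcm (q ^ 3 + 1) (q ^ 1 - 1) = (q ^ 3 + 1) * (q - 1) := by
  rw [pow_one]
  have h : Nat.Coprime (q ^ 3 + 1) (q - 1) := by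
    apply coprime_of_odd (odd_pow_add hq2 3 (by omega))
    intro g hg1 hg2
    exact dvd_two_of_add_sub (q_pow_pos hq 3) hg1 (hg2.trans (d_sub_one 3))
  exact h.lcm_eq_mul

theorem lcm12 : Nat.lcm (q ^ 3 - 1) (q ^ 1 + 1) = (q ^ 3 - 1) * (q + 1) := by
  rw [pow_one]
  have h : Nat.Coprime (q ^ 3 - 1) (q + 1) := by
    apply coprime_of_odd (odd_pow_sub hq2 hq 3 (by omega))
    intro g hg1 hg2
    exact dvd_two_of_add_sub (q_pow_pos hq 3) (hg2.trans d_add_one_three) hg1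
  exact h.lcm_eq_mul

end arith

section assemble

variable {F : Type u} [Field F] [Fintype F] [CharP F 2]

/-- every member of `L8 q` is realised on a minus type space of dimension eight -/
theorem oord_L8 (N : ℕ) (hN : N ∈ L8 (Fintype.card F)) : OOrd F N 8 False := by
  set q := Fintype.card F with hq
  have hq2 : 2 ∣ q := two_dvd_card
  have hq' : 2 ≤ q := Fintype.one_lt_card
  obtain ⟨u2p, u4p, u8p⟩ := oord_unip_plus (F := F)
  obtain ⟨u2m, u4m, u8m⟩ := oord_unip_minus (F := F)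
  have sm := fun d hd => oord_singer_minus (F := F) d hd
  have sp := fun d hd => oord_split_plus (F := F) d hd
  simp only [L8, Finset.mem_insert, Finset.mem_singleton] at hN
  rcases hN with rfl | rfl | rfl | rfl | rfl | rfl | rfl | rfl | rfl | rfl | rfl | rfl
  · rw [← lcm1 hq2 hq']
    exact (u8p.mul (sm 1 le_rfl) (by decide) (by decide)).congr (by simp)
  · rw [← lcm2 hq2 hq']
    exact (u8m.mul (sp 1 le_rfl) (by decide) (by decide)).congr (by simp)
  · rw [← lcm3 hq2 hq']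
    exact (u4p.mul (sm 2 (by omega)) (by decide) (by decide)).congr (by simp)
  · rw [← lcm4 hq2 hq']
    exact (u4m.mul (sp 2 (by omega)) (by decide) (by decide)).congr (by simp)
  · rw [← lcm5 hq2 hq']
    exact (u2p.mul (sm 3 (by omega)) (by decide) (by decide)).congr (by simp)
  · rw [← lcm6 hq2 hq']
    exact (u2m.mul (sp 3 (by omega)) (by decide) (by decide)).congr (by simp)
  · rw [← lcm7 hq2 hq']
    exact ((u2m.mul (sm 2 (by omega)) (by decide) (by decide)).mul (sm 1 le_rfl) (by decide)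
      (by decide)).congr (by simp)
  · rw [← lcm8 hq2 hq']
    exact ((u2p.mul (sm 2 (by omega)) (by decide) (by decide)).mul (sp 1 le_rfl) (by decide)
      (by decide)).congr (by simp)
  · exact sm 4 (by omega)
  · rw [← lcm10 hq2 hq']
    exact ((sm 2 (by omega)).mul (sp 2 (by omega)) (by decide) (by decide)).congr (by simp)
  · rw [← lcm11 hq2 hq']
    exact ((sm 3 (by omega)).mul (sp 1 le_rfl) (by decide) (by decide)).congr (by simp)
  · rw [← lcm12 hq2 hq']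
    exact ((sp 3 (by omega)).mul (sm 1 le_rfl) (by decide) (by decide)).congr (by simp)

/-- every member of `L8 q` is the order of an element of the isometry group of the standard minus
type form in dimension eight -/
theorem exists_orderOf_eq (a b : F)
    (hab : ∀ z₁ z₂ : F, z₁ ^ 2 + a * z₁ * z₂ + b * z₂ ^ 2 = 0 → z₁ = 0 ∧ z₂ = 0)
    (N : ℕ) (hN : N ∈ L8 (Fintype.card F)) :
    ∃ M : ↥(Cfsg.isometryGroup F (Cfsg.quadFormMinus 3 F a b)), orderOf M = N := by
  have hpos : 0 < N := by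
    have hq' : 2 ≤ Fintype.card F := Fintype.one_lt_card
    have h1 : 1 ≤ Fintype.card F ^ 3 - 1 := by
      have : 2 ^ 3 ≤ Fintype.card F ^ 3 := Nat.pow_le_pow_left hq' 3
      omega
    have h2 : 1 ≤ Fintype.card F ^ 2 - 1 := by
      have : 2 ^ 2 ≤ Fintype.card F ^ 2 := Nat.pow_le_pow_left hq' 2
      omega
    have h4 : 1 ≤ Fintype.card F ^ 4 - 1 := by
      have : 2 ^ 4 ≤ Fintype.card F ^ 4 := Nat.pow_le_pow_left hq' 4
      omega
    simp only [L8, Finset.mem_insert, Finset.mem_singleton] at hN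
    rcases hN with rfl | rfl | rfl | rfl | rfl | rfl | rfl | rfl | rfl | rfl | rfl | rfl <;>
      first | positivity | (apply Nat.mul_pos <;> first | positivity | omega) | omega
  exact OOrd.exists_matrix (k := 3) hpos (oord_L8 N hN) a b hab

end assemble

end Cfsg.Agent.Lib.Carve.Sp8B
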