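import Mathlib
import Cfsg.Agent.Lib.Helper5.Sp8B.Assemble
import Cfsg.Agent.Lib.Helper5.Sp8A.Main
import Cfsg.Agent.Lib.Helper5.SylTor4
import Cfsg.Agent.S0246

set_option autoImplicit false

/-!
`Sp₈(q)` and the full isometry group of the minus type form in dimension eight have the same set of
element orders (`q` even).
-/

namespace Cfsg.Agent.Lib.Carve.Sp8B

open Cfsg.Agent.Lib.Carve.Sp8A QuadraticMap Module

universe u

variable {F : Type u} [Field F] [Fintype F] [CharP F 2]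

/-- the centre of the symplectic group is trivial in characteristic two -/
theorem center_sp_eq_bot (m : ℕ) (hm : 1 ≤ m) :
    Subgroup.center (Matrix.symplecticGroup (Fin m) F) = ⊥ := by
  have h1 := Cfsg.Agent.S0246.result (F := F) rfl m hm
  have hq2 : 2 ∣ Fintype.card F := two_dvd_card
  have hq : 2 ≤ Fintype.card F := Fintype.one_lt_card
  have h2 : Nat.gcd 2 (Fintype.card F - 1) = 1 := by
    have hodd : Odd (Fintype.card F - 1) := by
      obtain ⟨k, hk⟩ := hq2
      exact ⟨k - 1, by omega⟩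
    exact (Nat.coprime_two_left).2 hodd
  rw [h2] at h1
  exact Subgroup.card_eq_one.1 h1

open Cfsg.Agent.Lib.Helper2.OrthCard in
/-- the isometry group of the minus type form embeds into the symplectic group -/
theorem exists_embedding (a b : F)
    (hab : ∀ z₁ z₂ : F, z₁ ^ 2 + a * z₁ * z₂ + b * z₂ ^ 2 = 0 → z₁ = 0 ∧ z₂ = 0) :
    ∃ φ : ↥(Cfsg.isometryGroup F (Cfsg.quadFormMinus 3 F a b)) →*
      Matrix.symplecticGroup (Fin 4) F, Function.Injective φ := by
  classical
  set Q := QMn (F := F) 3 a b with hQ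
  have hnd := QMn_nondeg 3 a b hab
  set B : LinearMap.BilinForm F ((Fin 3 ⊕ Fin 3) ⊕ Fin 2 → F) := polarBilin Q with hB
  have hBa : ∀ x y, B x y = polar Q x y := fun x y => rfl
  have halt : B.IsAlt := by
    intro x
    rw [hBa, polar_self, two_nsmul, CharTwo.add_self_eq_zero]
  have hdim : finrank F ((Fin 3 ⊕ Fin 3) ⊕ Fin 2 → F) = 2 * 4 := by
    rw [Module.finrank_fintype_fun_eq_card, Fintype.card_sum, Fintype.card_sum, Fintype.card_fin,
      Fintype.card_fin]
  set ρ : ↥(Cfsg.isometryGroup F (Cfsg.quadFormMinus 3 F a b)) →*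
      (((Fin 3 ⊕ Fin 3) ⊕ Fin 2 → F) ≃ₗ[F] ((Fin 3 ⊕ Fin 3) ⊕ Fin 2 → F)) :=
    ((LinearMap.GeneralLinearGroup.generalLinearEquiv F _).toMonoidHom.comp
      (Matrix.GeneralLinearGroup.toLin.toMonoidHom)).comp
      (Cfsg.isometryGroup F (Cfsg.quadFormMinus 3 F a b)).subtype with hρ
  have hρa : ∀ (g : ↥(Cfsg.isometryGroup F (Cfsg.quadFormMinus 3 F a b))) x,
      ρ g x = (g.1.1).mulVec x := by
    intro g x
    rfl
  have hρinj : Function.Injective ρ := by
    intro g g' h
    apply Subtype.ext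
    apply Matrix.GeneralLinearGroup.toLin.injective
    apply (LinearMap.GeneralLinearGroup.generalLinearEquiv F _).injective
    exact h
  have hQg : ∀ (g : ↥(Cfsg.isometryGroup F (Cfsg.quadFormMinus 3 F a b))) x,
      Q (ρ g x) = Q x := by
    intro g x
    rw [hρa, hQ, QMn_coe]
    exact g.2 x x
  refine Cfsg.Agent.Lib.Helper5.SylTor.exists_sp_hom B halt (fun x hx => hnd.1 x hx) hdim ρ hρinj ?_
  intro g x y
  rw [hBa, hBa]
  simp only [polar, ← map_add, hQg]

/-- the two spectra coincide -/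
theorem spectrum_eq (a b : F)
    (hab : ∀ z₁ z₂ : F, z₁ ^ 2 + a * z₁ * z₂ + b * z₂ ^ 2 = 0 → z₁ = 0 ∧ z₂ = 0) :
    Set.range (orderOf : Cfsg.PSp 4 F → ℕ) =
      Set.range (orderOf : ↥(Cfsg.isometryGroup F (Cfsg.quadFormMinus 3 F a b)) → ℕ) := by
  apply Set.eq_of_subset_of_subset
  · rintro _ ⟨x, rfl⟩
    obtain ⟨g, rfl⟩ := QuotientGroup.mk_surjective x
    obtain ⟨N, hN, hgN⟩ := exists_exponent g
    obtain ⟨M, hM⟩ := exists_orderOf_eq a b hab N hN
    have hx : (QuotientGroup.mk g : Cfsg.PSp 4 F) ^ N = 1 := by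
      rw [← QuotientGroup.mk_pow, hgN]
      rfl
    have hdvd : orderOf (QuotientGroup.mk g : Cfsg.PSp 4 F) ∣ N := orderOf_dvd_of_pow_eq_one hx
    obtain ⟨k, hk⟩ := hdvd
    have hNpos : 0 < N := by
      rw [← hM]
      exact orderOf_pos M
    have hk0 : k ≠ 0 := by
      rintro rfl
      rw [mul_zero] at hk
      omega
    refine ⟨M ^ k, ?_⟩
    rw [orderOf_pow_of_dvd hk0 (by rw [hM, hk]; exact dvd_mul_left _ _), hM, hk,
      Nat.mul_div_cancel _ (Nat.pos_of_ne_zero hk0)]
  · rintro _ ⟨M, rfl⟩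
    obtain ⟨φ, hφ⟩ := exists_embedding a b hab
    refine ⟨QuotientGroup.mk (φ M), ?_⟩
    have hinj : Function.Injective
        (QuotientGroup.mk' (Subgroup.center (Matrix.symplecticGroup (Fin 4) F))) := by
      rw [← MonoidHom.ker_eq_bot_iff, QuotientGroup.ker_mk', center_sp_eq_bot 4 (by norm_num)]
    have h1 := orderOf_injective _ hinj (φ M)
    have h2 := orderOf_injective φ hφ M
    rw [← h2, ← h1]
    rfl

end Cfsg.Agent.Lib.Carve.Sp8B
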